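import Cfsg.Agent.Mrg.Omega.NOThreeL.RRed.QFr.Zj

section


/-!
# NO-3L, box R, natural blocks, `q ≥ 4` : `X = V*` at the top level (step (4) of helper553's #27445)

`b : Bq S M V N D l C q`, `V ≤ X ≤ S` elementary abelian, `M`-invariant, `S` does not over-offend on `X`, one exact offender
`A ≤ S` with `C_A(V) ≤ C(X)`, `X = V C_X(A)`.

* `AX` : the offenders of this kind; `lvX` : they give level data `LvQ` (with `L = M`);
* **`vx_bq`** : if `C_S(V)` centralises `X` then `X ≤ V` (helper970's `core`; `A₇` on `2⁴` included).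
-/

set_option autoImplicit false
set_option linter.unusedSectionVars false

namespace Cfsg.Agent.Omega.NOThreeL.RRed.BQ

open Subgroup Cfsg Cfsg.Agent.ZN Cfsg.Agent.ZN.ChoiceBase
open Cfsg.Agent.Omega.SQ1.Bau (mem_sup_comm card_sup_comm elem_comm elem_sq mem_sup_norm)
open Cfsg.Agent.Omega.FFThm (ElemM NoOverM)
open Cfsg.Agent.Omega.NO3S.OneLine (BFam bo bo_fam)
open Cfsg.Agent.Omega.NOThreeL.RRed.QFr

universe u

variable {G : Type u} [Group G]

/-- The offenders of the type in `(NOX)`. -/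
def AX (S V X : Subgroup G) : Set (Subgroup G) :=
  {A | A ∈ bo S X ∧ A ⊓ centralizer (V : Set G) ≤ centralizer (X : Set G) ∧ X ≤ V ⊔ (X ⊓ centralizer (A : Set G))}

variable [Finite G] {ι : Type} {S : Sylow 2 G} {M V X : Subgroup G} {N D l C : ι → Subgroup G} {q : ℕ}

/-- An exact `A` with `X = V C_X(A)` is a best offender on `X`. -/
theorem bo_of {S : Subgroup G} (hXc : ∀ x ∈ X, ∀ y ∈ X, x * y = y * x) (hVX : V ≤ X) (noX : NoOverM X S) {A : Subgroup G}
    (hA : A ≤ S) (hE : ElemM X A) (hc : A ⊓ centralizer (V : Set G) ≤ centralizer (X : Set G))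
    (hX : X ≤ V ⊔ (X ⊓ centralizer (A : Set G)))
    (ex : Nat.card A * Nat.card ↥(V ⊓ centralizer (A : Set G)) = Nat.card V * Nat.card ↥(A ⊓ centralizer (V : Set G))) :
    A ∈ bo S X := by
  have h1 : A ⊓ centralizer (V : Set G) = A ⊓ centralizer (X : Set G) :=
    le_antisymm (le_inf inf_le_left hc) (inf_le_inf_left _ (centralizer_le hVX))
  have h2 : V ⊔ (X ⊓ centralizer (A : Set G)) = X := le_antisymm (sup_le hVX inf_le_left) hX
  have h3 := card_sup_comm (A := V) (B := X ⊓ centralizer (A : Set G)) fun v hv x hx => hXc v (hVX hv) x hx.1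
  have h4 : V ⊓ (X ⊓ centralizer (A : Set G)) = V ⊓ centralizer (A : Set G) := by
    rw [← inf_assoc, inf_eq_left.2 hVX]
  rw [h2, h4] at h3
  have h5 : Nat.card A * Nat.card ↥(X ⊓ centralizer (A : Set G)) = Nat.card X * Nat.card ↥(A ⊓ centralizer (X : Set G)) := by
    refine Nat.eq_of_mul_eq_mul_left (Nat.card_pos (α := V)) ?_
    calc Nat.card V * (Nat.card A * Nat.card ↥(X ⊓ centralizer (A : Set G)))
        = Nat.card A * (Nat.card V * Nat.card ↥(X ⊓ centralizer (A : Set G))) := by ring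
      _ = Nat.card A * (Nat.card X * Nat.card ↥(V ⊓ centralizer (A : Set G))) := by rw [h3]
      _ = (Nat.card A * Nat.card ↥(V ⊓ centralizer (A : Set G))) * Nat.card X := by ring
      _ = Nat.card V * (Nat.card X * Nat.card ↥(A ⊓ centralizer (X : Set G))) := by rw [ex, h1]; ring
  refine ⟨hA, hE, fun B hB hBA => ?_⟩
  have hEB : ElemM X B := ⟨fun b hb => hE.sq b (hBA hb), fun b hb c hc => hE.comm b (hBA hb) c (hBA hc)⟩
  have h6 := noX B (hBA.trans hA) hEB
  have h7 : B ⊓ centralizer (X : Set G) = A ⊓ centralizer (X : Set G) :=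
    le_antisymm (inf_le_inf_right _ hBA) (le_inf hB inf_le_right)
  rw [h7, ← h5] at h6
  exact h6

/-- **The level data for the offenders `AX`.** -/
theorem lvX (b : Bq S M V N D l C q) (hVX : V ≤ X) (elX : IsElementaryAbelian 2 X) (hXS : X ≤ (S : Subgroup G))
    (hMX : ∀ m ∈ M, ∀ x ∈ X, m * x * m⁻¹ ∈ X) {A : Subgroup G} (hA : A ∈ AX (S : Subgroup G) V X)
    (hne : ¬ A ≤ centralizer (V : Set G)) :
    LvQ S M V N X M (sSup (AX (S : Subgroup G) V X)) (AX (S : Subgroup G) V X) where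
  ML := le_rfl
  fam := by
    have hb := bo_fam (S : Subgroup G) X
    refine ⟨fun A hA => hA.1.1, fun A hA => hA.1.2.1, fun A hA => hA.1.2.2, fun A hA B hAB hBA he => ?_,
      fun A hA g hg hle => ?_⟩
    · refine ⟨B, ⟨⟨hBA.trans hA.1.1, ⟨fun a ha => hA.1.2.1.sq a (hBA ha), fun a ha c hc =>
        hA.1.2.1.comm a (hBA ha) c (hBA hc)⟩, fun E hE hEB => ?_⟩, (inf_le_inf_right _ hBA).trans hA.2.1,
        hA.2.2.trans (sup_le_sup_left (inf_le_inf_left _ (centralizer_le hBA)) _)⟩, rfl⟩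
      rw [he]
      exact hA.1.2.2 E ((le_inf hAB inf_le_right).trans hE) (hEB.trans hBA)
    · have hgX : g ∈ normalizer (X : Set G) := by
        rw [mem_normalizer_iff]
        refine fun x => ⟨fun hx => hMX g hg x hx, fun hx => ?_⟩
        have h1 := hMX g⁻¹ (inv_mem hg) _ hx
        have e : g⁻¹ * (g * x * g⁻¹) * g⁻¹⁻¹ = x := by group
        rwa [e] at h1
      have hgV : g ∈ normalizer (V : Set G) := by
        rw [mem_normalizer_iff]
        refine fun x => ⟨fun hx => b.MV g hg x hx, fun hx => ?_⟩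
        have h1 := b.MV g⁻¹ (inv_mem hg) _ hx
        have e : g⁻¹ * (g * x * g⁻¹) * g⁻¹⁻¹ = x := by group
        rwa [e] at h1
      have eX := cj_eq_of_mem_normalizer hgX
      have eV := cj_eq_of_mem_normalizer hgV
      refine ⟨hb.conj A hA.1 g hgX hle, ?_, ?_⟩
      · have h1 := cj_mono g hA.2.1
        rwa [cj_inf, cj_centralizer, cj_centralizer, eV, eX] at h1
      · have h1 := cj_mono g hA.2.2
        rw [eX] at h1
        refine h1.trans ?_
        rintro _ ⟨y, hy, rfl⟩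
        have h2 : ∀ y ∈ V ⊔ (X ⊓ centralizer (A : Set G)), g * y * g⁻¹ ∈ V ⊔ (X ⊓ centralizer (cj g A : Set G)) := by
          have h3 : V ⊔ (X ⊓ centralizer (A : Set G)) ≤
              (V ⊔ (X ⊓ centralizer (cj g A : Set G))).comap (MulAut.conj g).toMonoidHom := by
            refine sup_le (fun v hv => mem_sup_left (b.MV g hg v hv)) fun x hx => mem_sup_right ?_
            have h4 : g * x * g⁻¹ ∈ cj g (X ⊓ centralizer (A : Set G)) := ⟨x, hx, rfl⟩
            rwa [cj_inf, cj_centralizer, eX] at h4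
          exact fun y hy => h3 hy
        exact h2 y hy
  elX := elX
  VX := hVX
  XS := hXS
  MX := hMX
  AJ A hA := le_sSup hA
  JS := sSup_le fun A hA => hA.1.1
  Jg := le_sup_left
  mv := by
    by_contra hcon
    push Not at hcon
    apply hne
    have h1 : (⨆ i, N i) ≤ centralizer (A : Set G) := iSup_le fun i => le_centralizer_iff.1 (hcon i A hA)
    exact le_centralizer_iff.1 (b.sup.trans h1)

/-- **`X = V`.** -/
theorem vx_bq [Finite ι] (b : Bq S M V N D l C q) (hVX : V ≤ X) (elX : IsElementaryAbelian 2 X)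
    (hXS : X ≤ (S : Subgroup G)) (hMX : ∀ m ∈ M, ∀ x ∈ X, m * x * m⁻¹ ∈ X) (hZV : zc (S : Subgroup G) ≤ V)
    (noX : NoOverM X (S : Subgroup G))
    (hA : ∃ A : Subgroup G, A ≤ (S : Subgroup G) ∧ ElemM X A ∧ ¬ A ≤ centralizer (V : Set G) ∧
      A ⊓ centralizer (V : Set G) ≤ centralizer (X : Set G) ∧ X ≤ V ⊔ (X ⊓ centralizer (A : Set G)) ∧
      Nat.card A * Nat.card ↥(V ⊓ centralizer (A : Set G)) = Nat.card V * Nat.card ↥(A ⊓ centralizer (V : Set G)))
    (hQ : (S : Subgroup G) ⊓ centralizer (V : Set G) ≤ centralizer (X : Set G)) : X ≤ V := by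
  have hXc := elem_comm elX
  obtain ⟨A, hAS, hE, hne, hc, hX, ex⟩ := hA
  have lv := lvX b hVX elX hXS hMX (A := A) ⟨bo_of hXc hVX noX hAS hE hc hX ex, hc, hX⟩ hne
  refine core b hVX hXc (fun y hy => by rw [← pow_two]; exact elem_sq elX y hy) hMX (fun k hk y hy => ?_) (fun i => ?_)
    fun y hy hyS => ?_
  · refine comm_of_two b hy (fun k hk hk' => ?_) hk
    obtain ⟨hkM, hkV, -⟩ := mem_Kr.1 hk
    obtain ⟨m, hm, hmS⟩ := BFr.exists_into S b.SM hk' (by rw [zpowers_le]; exact hkM)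
    have h1 : m * k * m⁻¹ ∈ (S : Subgroup G) := hmS ⟨k, mem_zpowers k, rfl⟩
    have h2 : m * k * m⁻¹ ∈ (S : Subgroup G) ⊓ centralizer (V : Set G) := by
      refine ⟨h1, mem_centralizer_iff.2 fun v hv => ?_⟩
      have h3 := b.MV m⁻¹ (inv_mem hm) v hv
      rw [inv_inv] at h3
      have h4 := hkV _ h3
      calc v * (m * k * m⁻¹) = m * ((m⁻¹ * v * m) * k) * m⁻¹ := by group
        _ = m * k * m⁻¹ * v := by rw [← h4]; group
    have h3 := (mem_centralizer_iff.1 (hQ h2) _ (hMX m hm y hy)).symm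
    have h4 := congrArg (fun t => m⁻¹ * t * m) h3
    simpa [mul_assoc] using h4
  · obtain ⟨A', w, -, h1, h2⟩ := exists_gd (Y := X) b lv le_rfl (fun B hB hBV b' hb' y hy =>
      (mem_centralizer_iff.1 (hB.2.1 ⟨hb', hBV hb'⟩) y hy).symm) i
    exact ⟨A', w, h1, h2⟩
  · exact hZV (ChoiceBase.mem_zc.2 ⟨hXS hy, elem_sq elX y hy, hyS⟩)

end Cfsg.Agent.Omega.NOThreeL.RRed.BQ

end

section


/-!
# NO-3L, box R, natural blocks : #27445 (4) over `Bq`

* `Pu` : `A ≤ S` is a full root group on `N i` with axis `l i`, trivial on the other blocks;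
* `Pu.exists_w` : the Weyl element; `Pu.all` : from one block to all blocks (`M`-conjugates in `S`);
* **`le_of_pure`** : `V ≤ X` el. ab., `M`-invariant, `C_S(V) ≤ C(X)`, `X = V C_X(A)` for one such `A`; then `X ≤ V`.
-/

set_option autoImplicit false
set_option linter.unusedSectionVars false

namespace Cfsg.Agent.Omega.NOThreeL.RRed.BQ

open Subgroup Cfsg Cfsg.Agent.ZN Cfsg.Agent.ZN.ChoiceBase
open Cfsg.Agent.Lib.SL2Mat
open Cfsg.Agent.Omega.NatPair hiding cj cj_one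
open Cfsg.Agent.Omega.SQ1.Bau (mem_sup_comm card_sup_comm elem_comm elem_sq mem_sup_norm)
open Cfsg.Agent.Omega.FFThm (ElemM)
open Cfsg.Agent.Omega.OM.FourF (Act)
open Cfsg.Agent.Omega.OM.SwapV.Q (CorA)
open Cfsg.Agent.Omega.NOThreeL.RRed.QFr

universe u

variable {G : Type u} [Group G]

/-- `A ≤ S` is a full root group on `N i` with axis `l i`, trivial on the other blocks. -/
structure Pu {ι : Type} (S : Subgroup G) (N l : ι → Subgroup G) (q : ℕ) (A : Subgroup G) (i : ι) : Prop where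
  le : A ≤ S
  fix : ∀ a ∈ A, ∀ z ∈ l i, a * z = z * a
  com : ∀ a ∈ A, ∀ v ∈ N i, a * v * a⁻¹ * v⁻¹ ∈ l i
  full : q * Nat.card ↥(A ⊓ centralizer (N i : Set G)) ≤ Nat.card A
  oth : ∀ j, j ≠ i → A ≤ centralizer (N j : Set G)

variable [Finite G] {ι : Type} {S : Sylow 2 G} {M V : Subgroup G} {N D l C : ι → Subgroup G} {q : ℕ}
  {X A : Subgroup G} {i : ι} (b : Bq S M V N D l C q)

namespace Pu

section basic

variable (p : Pu (S : Subgroup G) N l q A i)
include b p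

theorem nrm {a : G} (ha : a ∈ A) {v : G} (hv : v ∈ N i) : a * v * a⁻¹ ∈ N i := by
  have h2 := mul_mem (b.lN i (p.com a ha v hv)) hv
  simpa using h2

theorem nrm' {a : G} (ha : a ∈ A) (j : ι) : ∀ v ∈ N j, a * v * a⁻¹ ∈ N j := by
  intro v hv
  by_cases hj : j = i
  · subst hj; exact p.nrm b ha hv
  · rw [← mem_centralizer_iff.1 (p.oth j hj ha) v hv]
    simpa using hv

theorem cen {a : G} (ha : a ∈ A) {c : G} (hc : c ∈ C i) : a * c = c * a :=
  b.cent_C (fun j hj v hv => (mem_centralizer_iff.1 (p.oth j hj ha) v hv).symm) c hc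

theorem mvs : ¬ A ≤ centralizer (N i : Set G) := by
  intro h0
  have h1 := p.full
  rw [inf_eq_left.2 h0] at h1
  have h2 : 0 < Nat.card A := Nat.card_pos
  have := b.q4
  nlinarith

/-- fixed points of an element moving `N i` -/
theorem mem_l {a : G} (ha : a ∈ A) (hm : ∃ v ∈ N i, a * v ≠ v * a) {n : G} (hn : n ∈ N i) (h : a * n = n * a) :
    n ∈ l i := by
  obtain ⟨F, _, _, _, e, hF, c, s⟩ := b.nat i
  obtain ⟨m, hma⟩ := c.up_of (p.le ha) (p.fix a ha)
  have hm0 : m ≠ 0 := by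
    rintro rfl
    obtain ⟨v, hv, hne⟩ := hm
    refine hne (mul_inv_eq_iff_eq_mul.1 (c.inj _ (p.nrm b ha hv) v hv ?_))
    rw [hma v hv]
    simp
  exact c.mem_of_fix hm0 hma hn h

theorem fix_l {n : G} (hn : n ∈ N i) (h : ∀ a ∈ A, a * n = n * a) : n ∈ l i := by
  have h1 := p.mvs b
  rw [SetLike.not_le_iff_exists] at h1
  obtain ⟨a, ha, ha'⟩ := h1
  rw [mem_centralizer_iff] at ha'
  push Not at ha'
  obtain ⟨v, hv, hne⟩ := ha'
  exact p.mem_l b ha ⟨v, hv, fun e => hne e.symm⟩ hn (h a ha)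

/-- **The Weyl element.** -/
theorem exists_w : ∃ w, Wy M V N D l C A w i := by
  obtain ⟨F, _, _, _, e, hF, c, s⟩ := b.nat i
  have hAn : ∀ a ∈ A, ∀ v ∈ N i, a * v * a⁻¹ ∈ N i := fun a ha v hv => p.nrm b ha hv
  have hAc : ∀ a ∈ A, ∀ x ∈ C i, a * x = x * a := fun a ha x hx => p.cen b ha hx
  have h3 := p.fix
  have hfull := c.full_of p.le hAn h3 (by rw [hF]; exact p.full)
  obtain ⟨w, hw, hwa⟩ := s.lift 0 1 (-1) 0 (by ring)
  have hwa' : ∀ v ∈ N i, pv e (w * v * w⁻¹) = ap (wm (1 : F) one_ne_zero) (pv e v) := by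
    intro v hv
    rw [act_pv (by ring) hwa v hv]
    congr 1
    refine ext_ent ?_ ?_ ?_ ?_ <;> simp
  have e0 := CorA_one c
  refine ⟨w, p.le.trans b.SM, hw, hAn, hAc, h3,
    fun v hv hf => p.fix_l b hv hf, fun v hv hv' => ?_, fun v hv => ?_, fun d hd => gen_aux b c s hAn hAc hfull hw hwa' hd,
    fun a ha => ?_⟩
  · obtain ⟨hu1, hu2⟩ := (c.memZ _).1 hv'
    obtain ⟨hv1, hv2⟩ := (c.memZ _).1 hv
    have h6 := hwa _ hu1
    have e2 : w * (w⁻¹ * v * w) * w⁻¹ = v := by group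
    rw [e2] at h6
    refine c.inj v hv1 1 (one_mem _) ?_
    rw [e0]
    refine Prod.ext ?_ hv2
    rw [h6]
    simp [hu2]
  · obtain ⟨x, hx, hxe⟩ := c.surj ((e v).1, 0)
    obtain ⟨y, hy, hye⟩ := c.surj (-(e v).2, 0)
    refine ⟨x, (c.memZ x).2 ⟨hx, by rw [hxe]⟩, y, (c.memZ y).2 ⟨hy, by rw [hye]⟩, ?_⟩
    have h6 := s.nD w hw y hy
    refine c.inj v hv _ (mul_mem hx h6) ?_
    rw [c.mul x hx _ h6, hwa y hy, hxe, hye]
    ext <;> simp
  · obtain ⟨m, hm⟩ := c.up_of (p.le ha) (h3 a ha)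
    obtain ⟨d, hd, hda⟩ := s.lift 1 m 0 1 (by ring)
    refine ⟨d, hd, fun v hv => ?_⟩
    obtain ⟨n, hn, c', hc', rfl⟩ := b.WC i v hv
    have h6 : a * n * a⁻¹ = d * n * d⁻¹ := by
      refine c.inj _ (hAn a ha n hn) _ (s.nD d hd n hn) ?_
      rw [hm n hn, hda n hn]
      ext <;> simp
    have h7 : a * c' * a⁻¹ = c' := by rw [hAc a ha c' hc']; group
    have h8 : d * c' * d⁻¹ = c' := by rw [b.DC i d hd c' hc']; group
    calc a * (n * c') * a⁻¹ = (a * n * a⁻¹) * (a * c' * a⁻¹) := by group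
      _ = (d * n * d⁻¹) * (d * c' * d⁻¹) := by rw [h6, h7, h8]
      _ = _ := by group

/-- `A` is elementary abelian on `V` -/
theorem elem : ElemM V A := by
  obtain ⟨F, _, _, i3, e, hF, c, s⟩ := b.nat i
  have key : ∀ g : G, (∀ v ∈ N i, g * v = v * g) → (∀ x ∈ C i, g * x = x * g) → g ∈ centralizer (V : Set G) := by
    intro g h1 h2
    refine mem_centralizer_iff.2 fun v hv => ?_
    obtain ⟨n, hn, x, hx, rfl⟩ := b.WC i v hv
    have c1 : Commute g n := h1 n hn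
    have c2 : Commute g x := h2 x hx
    exact (c1.mul_right c2).symm.eq
  constructor
  · intro a ha
    obtain ⟨m, hm⟩ := c.up_of (p.le ha) (p.fix a ha)
    refine key _ (fun v hv => ?_) fun x hx => ((show Commute a x from p.cen b ha hx).pow_left 2).eq
    have h1 := p.nrm b ha hv
    have h2 : a * (a * v * a⁻¹) * a⁻¹ = v := by
      refine c.inj _ (p.nrm b ha h1) v hv ?_
      rw [hm _ h1, hm v hv]
      ext
      · show (e v).1 + m * (e v).2 + m * (e v).2 = (e v).1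
        rw [add_assoc, CharTwo.add_self_eq_zero, add_zero]
      · rfl
    have h3 : a ^ 2 * v * (a ^ 2)⁻¹ = v := by
      calc a ^ 2 * v * (a ^ 2)⁻¹ = a * (a * v * a⁻¹) * a⁻¹ := by rw [pow_two]; group
        _ = v := h2
    exact mul_inv_eq_iff_eq_mul.1 h3
  · intro a ha a' ha'
    obtain ⟨m, hm⟩ := c.up_of (p.le ha) (p.fix a ha)
    obtain ⟨m', hm'⟩ := c.up_of (p.le ha') (p.fix a' ha')
    refine key _ (fun v hv => ?_) fun x hx => ?_
    · have h1 : ∀ v ∈ N i, a * (a' * v * a'⁻¹) * a⁻¹ = a' * (a * v * a⁻¹) * a'⁻¹ := by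
        intro v hv
        refine c.inj _ (p.nrm b ha (p.nrm b ha' hv)) _ (p.nrm b ha' (p.nrm b ha hv)) ?_
        rw [hm _ (p.nrm b ha' hv), hm' v hv, hm' _ (p.nrm b ha hv), hm v hv]
        ext
        · show (e v).1 + m' * (e v).2 + m * (e v).2 = (e v).1 + m * (e v).2 + m' * (e v).2
          ring
        · rfl
      have h2 : a⁻¹ * v * a ∈ N i := by simpa using p.nrm b (inv_mem ha) hv
      have h3 : a'⁻¹ * (a⁻¹ * v * a) * a' ∈ N i := by simpa using p.nrm b (inv_mem ha') h2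
      have h4 := h1 _ h3
      have h5 : a * a' * a⁻¹ * a'⁻¹ * v * (a * a' * a⁻¹ * a'⁻¹)⁻¹ = v := by
        have h6 : ∀ v ∈ N i, a * a' * a⁻¹ * a'⁻¹ * v * (a * a' * a⁻¹ * a'⁻¹)⁻¹ =
            a * (a' * (a⁻¹ * (a'⁻¹ * v * a') * a) * a'⁻¹) * a⁻¹ := fun v _ => by group
        rw [h6 v hv]
        have h7 : a'⁻¹ * v * a' ∈ N i := by simpa using p.nrm b (inv_mem ha') hv
        have h8 : a⁻¹ * (a'⁻¹ * v * a') * a ∈ N i := by simpa using p.nrm b (inv_mem ha) h7
        rw [h1 _ h8]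
        group
      exact mul_inv_eq_iff_eq_mul.1 h5
    · have c1 : Commute a x := p.cen b ha hx
      have c2 : Commute a' x := p.cen b ha' hx
      exact (((c1.mul_left c2).mul_left c1.inv_left).mul_left c2.inv_left).eq

/-- `A` is best on `V` -/
theorem best (Y : Subgroup G) (hY : Y ≤ V) : Nat.card ↥(A ⊓ centralizer (Y : Set G)) * Nat.card Y ≤
    Nat.card A * Nat.card ↥(Y ⊓ centralizer (A : Set G)) := by
  by_cases hAY : A ≤ centralizer (Y : Set G)
  · have h1 : Y ⊓ centralizer (A : Set G) = Y := inf_eq_left.2 (fun y hy => mem_centralizer_iff.2 fun a ha =>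
      (mem_centralizer_iff.1 (hAY ha) y hy).symm)
    rw [h1, inf_eq_left.2 hAY]
  -- `C_A(Y) ≤ C_A(N i)`
  rw [SetLike.not_le_iff_exists] at hAY
  obtain ⟨a₀, ha₀, ha₀'⟩ := hAY
  rw [mem_centralizer_iff] at ha₀'
  push Not at ha₀'
  obtain ⟨y, hy, hne⟩ := ha₀'
  obtain ⟨n, hn, c', hc', rfl⟩ := b.WC i y (hY hy)
  have hnl : n ∉ l i := by
    intro hnl
    refine hne ?_
    have c1 : Commute a₀ n := p.fix a₀ ha₀ n hnl
    have c2 : Commute a₀ c' := p.cen b ha₀ hc'
    exact (c1.mul_right c2).symm.eq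
  have h1 : A ⊓ centralizer (Y : Set G) ≤ A ⊓ centralizer (N i : Set G) := by
    rintro a ⟨ha, haY⟩
    refine ⟨ha, mem_centralizer_iff.2 ?_⟩
    by_contra hcon
    push Not at hcon
    obtain ⟨v, hv, hv'⟩ := hcon
    refine hnl (p.mem_l b ha ⟨v, hv, fun e => hv' e.symm⟩ hn ?_)
    have c1 : Commute a (n * c') := (mem_centralizer_iff.1 haY _ hy).symm
    have c2 : Commute a c' := p.cen b ha hc'
    have e : n = n * c' * c'⁻¹ := by group
    rw [e]
    exact (c1.mul_right c2.inv_right).eq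
  -- `|Y| ≤ q |C_Y(A)|`
  have hVc := elem_comm b.el
  have h2 : Nat.card Y ≤ q * Nat.card ↥(Y ⊓ centralizer (A : Set G)) := by
    set H := l i ⊔ C i with hH
    have hHV : H ≤ V := sup_le ((b.lN i).trans (b.NV i)) (b.CV i)
    have hV : V = N i ⊔ C i := le_antisymm (fun v hv => by
      obtain ⟨n, hn, c, hc, rfl⟩ := b.WC i v hv
      exact mul_mem (mem_sup_left hn) (mem_sup_right hc)) (sup_le (b.NV i) (b.CV i))
    have e1 := card_sup_comm (A := l i) (B := C i) fun x hx y hy => hVc x (b.NV i (b.lN i hx)) y (b.CV i hy)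
    have e2 := card_sup_comm (A := N i) (B := C i) fun x hx y hy => hVc x (b.NV i hx) y (b.CV i hy)
    have e3 : l i ⊓ C i = ⊥ := le_bot_iff.1 ((inf_le_inf_right _ (b.lN i)).trans (b.dir i).le)
    rw [e3, card_bot, mul_one, b.card_l i, ← hH] at e1
    rw [b.dir i, card_bot, mul_one, b.card_N i, ← hV] at e2
    have e4 := card_sup_comm (A := Y) (B := H) fun x hx y hy => hVc x (hY hx) y (hHV hy)
    have e5 := Subgroup.card_le_of_le (sup_le hY hHV)
    have e6 : Nat.card ↥(Y ⊓ H) ≤ Nat.card ↥(Y ⊓ centralizer (A : Set G)) := by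
      refine Subgroup.card_le_of_le (inf_le_inf_left _ ?_)
      refine sup_le (fun x hx => mem_centralizer_iff.2 fun a ha => p.fix a ha x hx) fun x hx =>
        mem_centralizer_iff.2 fun a ha => p.cen b ha hx
    have hC0 : 0 < Nat.card (C i) := Nat.card_pos
    have hq0 : 0 < q := by have := b.q4; omega
    have e7 : Nat.card Y * (q * Nat.card (C i)) ≤ q * q * Nat.card (C i) * Nat.card ↥(Y ⊓ H) := by
      rw [← e1, ← e2, ← e4]
      exact Nat.mul_le_mul_right _ e5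
    have e8 : (q * Nat.card (C i)) * Nat.card Y ≤ (q * Nat.card (C i)) * (q * Nat.card ↥(Y ⊓ H)) := by
      calc _ = Nat.card Y * (q * Nat.card (C i)) := by ring
        _ ≤ _ := e7
        _ = _ := by ring
    exact (Nat.le_of_mul_le_mul_left e8 (Nat.mul_pos hq0 hC0)).trans (Nat.mul_le_mul_left _ e6)
  calc _ ≤ Nat.card ↥(A ⊓ centralizer (N i : Set G)) * (q * Nat.card ↥(Y ⊓ centralizer (A : Set G))) :=
        Nat.mul_le_mul (Subgroup.card_le_of_le h1) h2
    _ = (q * Nat.card ↥(A ⊓ centralizer (N i : Set G))) * Nat.card ↥(Y ⊓ centralizer (A : Set G)) := by ring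
    _ ≤ _ := Nat.mul_le_mul_right _ p.full

end basic

/-- the conjugate into `S` -/
theorem exists_move (b : Bq S M V N D l C q) {A : Subgroup G} (hA : A ≤ (S : Subgroup G)) (hAK : A ≤ K0 M N) (i j : ι) :
    ∃ g ∈ M, cj g (N i) = N j ∧ cj g A ≤ (S : Subgroup G) := by
  obtain ⟨g, hg, hgi⟩ := b.tr i j
  have hTK : cj g A ≤ K0 M N := by
    rintro _ ⟨a, ha, rfl⟩
    exact K0_norm b hg (hAK ha)
  have hT : IsPGroup 2 (cj g A) := isPGroup_cj g (S.isPGroup'.to_le hA)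
  obtain ⟨m, hm, hmS⟩ := BFr.exists_into S (le_sup_right : (S : Subgroup G) ≤ K0 M N ⊔ (S : Subgroup G)) hT
    (hTK.trans le_sup_left)
  rw [sup_comm] at hm
  obtain ⟨s, hs, k, hk, rfl⟩ := mem_sup_norm (A := (S : Subgroup G)) (B := K0 M N)
    (fun s hs => mem_normalizer_iff.2 fun c => ⟨fun hc => K0_norm b (b.SM hs) hc, fun hc => by
      have h3 := K0_norm b (inv_mem (b.SM hs)) hc
      have e1 : s⁻¹ * (s * c * s⁻¹) * s⁻¹⁻¹ = c := by group
      rwa [e1] at h3⟩) hm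
  refine ⟨k * g, mul_mem (mem_K0.1 hk).1 hg, by rw [← cj_cj, hgi, (mem_K0.1 hk).2], ?_⟩
  have h3 : cj s (cj k (cj g A)) ≤ (S : Subgroup G) := by rwa [cj_cj]
  have h4 := cj_mono s⁻¹ h3
  rw [cj_inv_cj, cj_eq_of_mem_normalizer (le_normalizer (inv_mem hs)), cj_cj] at h4
  exact h4

/-- conjugates in `S` -/
theorem conj (b : Bq S M V N D l C q) (p : Pu (S : Subgroup G) N l q A i) {g : G} (hg : g ∈ M) {j : ι}
    (e : cj g (N i) = N j) (hS : cj g A ≤ (S : Subgroup G)) : Pu (S : Subgroup G) N l q (cj g A) j := by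
  have hV : cj g V = V := by
    refine Subgroup.eq_of_le_of_card_ge ?_ (by rw [card_cj])
    rintro _ ⟨v, hv, rfl⟩
    exact b.MV g hg v hv
  have hcV : cj g (centralizer (V : Set G)) = centralizer (V : Set G) := by rw [cj_centralizer, hV]
  have hcen : ∀ k k', cj g (N k) = N k' → (cj g A ≤ centralizer (N k' : Set G) ↔ A ≤ centralizer (N k : Set G)) := by
    intro k k' e
    rw [← e, ← cj_centralizer]
    constructor
    · intro h3
      have h4 := cj_mono g⁻¹ h3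
      rwa [cj_inv_cj, cj_inv_cj] at h4
    · exact fun h3 => cj_mono _ h3
  have h1 : ElemM V (cj g A) := by
    have h2 := p.elem b
    constructor
    · rintro _ ⟨a, ha, rfl⟩
      rw [← hcV]
      exact ⟨a ^ 2, h2.sq a ha, map_pow _ _ _⟩
    · rintro _ ⟨a, ha, rfl⟩ _ ⟨a', ha', rfl⟩
      rw [← hcV]
      exact ⟨a * a' * a⁻¹ * a'⁻¹, h2.comm a ha a' ha', by simp only [map_mul, map_inv]⟩
  obtain ⟨h3, h4, h5⟩ := (b.off (cj g A) hS h1 (fun Y hY => by
    have h6 := p.best b (cj g⁻¹ Y) (by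
      have h7 := cj_mono g⁻¹ hY
      rwa [← hV, cj_inv_cj] at h7)
    have e1 : Nat.card ↥(cj g A ⊓ centralizer (Y : Set G)) = Nat.card ↥(A ⊓ centralizer (cj g⁻¹ Y : Set G)) := by
      rw [← card_cj g (A ⊓ centralizer (cj g⁻¹ Y : Set G)), cj_inf, cj_centralizer, cj_cj_inv]
    have e2 : Nat.card ↥(Y ⊓ centralizer (cj g A : Set G)) = Nat.card ↥(cj g⁻¹ Y ⊓ centralizer (A : Set G)) := by
      rw [← card_cj g (cj g⁻¹ Y ⊓ centralizer (A : Set G)), cj_inf, cj_centralizer, cj_cj_inv]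
    rw [card_cj] at h6
    rw [e1, e2, card_cj]
    exact h6) j).resolve_left fun h0 => p.mvs b ((hcen i j e).1 h0)
  refine ⟨hS, h3, h4, h5, fun k hk => ?_⟩
  obtain ⟨k₀, hk₀, -⟩ := b.perm g⁻¹ (inv_mem hg) k
  have e' : cj g (N k₀) = N k := by rw [← hk₀, cj_cj, mul_inv_cancel, cj_one]
  rw [hcen k₀ k e']
  refine p.oth k₀ fun e0 => hk ?_
  rw [e0, e] at e'
  exact (b.N_inj e').symm

/-- **From one block to all blocks.** -/
theorem all (b : Bq S M V N D l C q) (p : Pu (S : Subgroup G) N l q A i) (j : ι) :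
    ∃ g ∈ M, Pu (S : Subgroup G) N l q (cj g A) j := by
  have hAK : A ≤ K0 M N := fun a ha => mem_K0.2 ⟨b.SM (p.le ha), fun k => (Lq.nC b (b.SM (p.le ha)) (p.nrm' b ha k)).1⟩
  obtain ⟨g, hg, e, hS⟩ := exists_move b p.le hAK i j
  exact ⟨g, hg, conj b p hg e hS⟩

end Pu

/-- **#27445 (4).** -/
theorem le_of_pure [Finite ι] (b : Bq S M V N D l C q) (hVX : V ≤ X) (elX : IsElementaryAbelian 2 X)
    (hMX : ∀ m ∈ M, ∀ x ∈ X, m * x * m⁻¹ ∈ X) (hXS : X ≤ (S : Subgroup G)) (hZV : zc (S : Subgroup G) ≤ V)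
    (p : Pu (S : Subgroup G) N l q A i) (hXA : X ≤ V ⊔ (X ⊓ centralizer (A : Set G)))
    (hQ : (S : Subgroup G) ⊓ centralizer (V : Set G) ≤ centralizer (X : Set G)) : X ≤ V := by
  have hXc := elem_comm elX
  refine core b hVX hXc (fun x hx => by rw [← pow_two]; exact elem_sq elX x hx) hMX (fun k hk x hx => ?_) (fun j => ?_)
    (fun x hx hxS => ?_)
  · refine comm_of_two b hx (fun k hk hk' => ?_) hk
    obtain ⟨hkM, hkV, -⟩ := mem_Kr.1 hk
    obtain ⟨m, hm, hmS⟩ := BFr.exists_into S b.SM hk' (by rw [zpowers_le]; exact hkM)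
    have h1 : m * k * m⁻¹ ∈ (S : Subgroup G) := hmS ⟨k, mem_zpowers k, rfl⟩
    have h2 : m * k * m⁻¹ ∈ (S : Subgroup G) ⊓ centralizer (V : Set G) := by
      refine ⟨h1, mem_centralizer_iff.2 fun v hv => ?_⟩
      have h3 := b.MV m⁻¹ (inv_mem hm) v hv
      rw [inv_inv] at h3
      have h4 := hkV _ h3
      calc v * (m * k * m⁻¹) = m * ((m⁻¹ * v * m) * k) * m⁻¹ := by group
        _ = m * k * m⁻¹ * v := by rw [← h4]; group
    have h3 := mem_centralizer_iff.1 (hQ h2) _ (hMX m hm x hx)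
    have h4 := congrArg (fun t => m⁻¹ * t * m) h3
    simpa [mul_assoc] using h4.symm
  · obtain ⟨g, hg, p'⟩ := p.all b j
    obtain ⟨w, hw⟩ := p'.exists_w b
    refine ⟨cj g A, w, hw, fun y hy => ?_⟩
    -- `y^(g⁻¹) = v c`
    have hy' : g⁻¹ * y * g ∈ X := by simpa using hMX g⁻¹ (inv_mem hg) y hy
    obtain ⟨v, hv, c, hc, e⟩ := mem_sup_comm (A := V) (B := X ⊓ centralizer (A : Set G))
      (fun v hv x hx => hXc v (hVX hv) x hx.1) (hXA hy')
    have hgv : g * v * g⁻¹ ∈ V := b.MV g hg v hv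
    obtain ⟨n, hn, c', hc', e'⟩ := b.WC j _ hgv
    refine ⟨n⁻¹, inv_mem hn, ?_⟩
    rintro _ ⟨a, ha, rfl⟩
    show g * a * g⁻¹ * (y * n⁻¹) = y * n⁻¹ * (g * a * g⁻¹)
    have ey : y * n⁻¹ = c' * (g * c * g⁻¹) := by
      have e1 : y = n * c' * (g * c * g⁻¹) := by
        rw [← e']
        calc y = g * (g⁻¹ * y * g) * g⁻¹ := by group
          _ = g * (v * c) * g⁻¹ := by rw [e]
          _ = _ := by group
      have h1 : c' * (g * c * g⁻¹) ∈ X := mul_mem (hVX (b.CV j hc')) (hMX g hg c hc.1)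
      have h2 := hXc n (hVX (b.NV j hn)) _ h1
      rw [e1, mul_assoc n, h2]
      group
    rw [ey]
    have c1 : Commute (g * a * g⁻¹) c' := hw.Ac _ ⟨a, ha, rfl⟩ c' hc'
    have c2 : Commute (g * a * g⁻¹) (g * c * g⁻¹) := by
      have h1 := mem_centralizer_iff.1 hc.2 a ha
      show g * a * g⁻¹ * (g * c * g⁻¹) = _
      calc g * a * g⁻¹ * (g * c * g⁻¹) = g * (a * c) * g⁻¹ := by group
        _ = g * (c * a) * g⁻¹ := by rw [h1]
        _ = _ := by group
    exact (c1.mul_right c2).eq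
  · exact hZV (ChoiceBase.mem_zc.2 ⟨hXS hx, elem_sq elX x hx, hxS⟩)

end Cfsg.Agent.Omega.NOThreeL.RRed.BQ

end
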